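import Groth.Prelude.Def_FSch2
import Groth.Agent.IsoNat.K862.LiftSp
import Groth.Agent.S3854

/-!
# Base change of a scheme over `S` to the completion of `S` along an ideal, and lifting of morphisms

For `u : U ⟶ S` the levels `U ×_S S_n` form a system `K655.BcSys.bc u`, adic over the completion of `S`; it is
levelwise smooth when `u` is smooth.  If `U` is affine and `v : V ⟶ S` is smooth then every morphism over `S`
from the bottom level of `bc u` to `V` extends to a morphism of systems `bc u ⟶ bc v`.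
-/

set_option autoImplicit false

universe u

open CategoryTheory CategoryTheory.Limits AlgebraicGeometry FSch

namespace K655.BcSys

variable {S : Scheme.{u}} (𝒥 : S.IdealSheafData) {U : Scheme.{u}} (u : U ⟶ S)

theorem ι_toS (n : ℕ) : (completionAlong S 𝒥).ι n ≫ completionToX S 𝒥 (n + 1) = completionToX S 𝒥 n :=
  Scheme.IdealSheafData.inclusion_subschemeι (pow_succ_le S 𝒥 n)

/-- The base change of `u : U ⟶ S` to the completion of `S` along `𝒥`. -/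
noncomputable def bc : Sys.{u} where
  X n := pullback u (completionToX S 𝒥 n)
  ι n := pullback.lift (pullback.fst _ _) (pullback.snd _ _ ≫ (completionAlong S 𝒥).ι n)
    (by rw [Category.assoc, ι_toS]; exact pullback.condition)

/-- The projection to the completion. -/
noncomputable def bcHom : bc 𝒥 u ⟶ completionAlong S 𝒥 where
  app n := pullback.snd u (completionToX S 𝒥 n)
  comm _ := (pullback.lift_snd _ _ _).symm

/-- The projection of the levels to `U`. -/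
noncomputable def bcFst (n : ℕ) : (bc 𝒥 u).X n ⟶ U := pullback.fst u (completionToX S 𝒥 n)

theorem ι_bcFst (n : ℕ) : (bc 𝒥 u).ι n ≫ bcFst 𝒥 u (n + 1) = bcFst 𝒥 u n :=
  pullback.lift_fst _ _ _

theorem isPullback_bcFst (n : ℕ) :
    IsPullback (bcFst 𝒥 u n) ((bcHom 𝒥 u : Hom _ _).app n) u (completionToX S 𝒥 n) :=
  IsPullback.of_hasPullback _ _

theorem isAdicHom_bcHom : IsAdicHom (bcHom 𝒥 u) := by
  intro n
  refine IsPullback.of_right (h₁₂ := bcFst 𝒥 u (n + 1)) (v₁₃ := u) (h₂₂ := completionToX S 𝒥 (n + 1)) ?_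
    ((bcHom 𝒥 u : Hom _ _).comm n).symm (isPullback_bcFst 𝒥 u (n + 1))
  rw [ι_bcFst, ι_toS]
  exact isPullback_bcFst 𝒥 u n

theorem smooth_bcHom [Smooth u] (n : ℕ) : Smooth ((bcHom 𝒥 u : Hom _ _).app n) :=
  inferInstanceAs (Smooth (pullback.snd u (completionToX S 𝒥 n)))

theorem isClosedImmersion_toS (n : ℕ) : IsClosedImmersion (completionToX S 𝒥 n) :=
  inferInstanceAs (IsClosedImmersion (𝒥 ^ (n + 1)).subschemeι)

theorem isAffine_bc [IsAffine U] (n : ℕ) : IsAffine ((bc 𝒥 u).X n) := by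
  have := isClosedImmersion_toS 𝒥 n
  have : IsClosedImmersion (bcFst 𝒥 u n) :=
    MorphismProperty.of_isPullback (isPullback_bcFst 𝒥 u n).flip this
  exact isAffine_of_isAffineHom (bcFst 𝒥 u n)

theorem comap_le (J K : S.IdealSheafData) (h : J ≤ K) : J.comap K.subschemeι = ⊥ := by
  rw [← le_bot_iff, ← Scheme.IdealSheafData.le_map_iff_comap_le, Scheme.IdealSheafData.map_bot,
    Scheme.IdealSheafData.ker_subschemeι]
  exact h

theorem ker_incl_sq {J K : S.IdealSheafData} (h : K ≤ J) (h2 : J ^ 2 ≤ K) :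
    (Scheme.IdealSheafData.inclusion h).ker * (Scheme.IdealSheafData.inclusion h).ker = ⊥ := by
  have h1 : (Scheme.IdealSheafData.inclusion h).ker = J.comap K.subschemeι :=
    Groth.Agent.S3854.ker_of_comp (K := K) (L := J) _ (Scheme.IdealSheafData.inclusion_subschemeι h)
  rw [h1, ← pow_two, ← Groth.Agent.Divis.IdealComap.comap_pow]
  exact comap_le _ _ h2

/-- The transition maps of the completion are square zero thickenings. -/
theorem nthick_ι (n : ℕ) : K635.Thick.nthick 1 ((completionAlong S 𝒥).ι n) := by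
  refine (K635.Thick.nthick_one_iff _).2 ⟨⟨?_, ⟨?_⟩⟩, ?_⟩
  · change IsClosedImmersion (Scheme.IdealSheafData.inclusion (FSch.pow_succ_le S 𝒥 n))
    infer_instance
  · refine Groth.Agent.S3854.surjective_of_comp (K := 𝒥 ^ (n + 2)) (L := 𝒥 ^ (n + 1)) _
      (Scheme.IdealSheafData.inclusion_subschemeι (FSch.pow_succ_le S 𝒥 n)) ?_
    rw [Scheme.IdealSheafData.support_pow _ _ (by omega), Scheme.IdealSheafData.support_pow _ _ (by omega)]
  · refine ker_incl_sq (FSch.pow_succ_le S 𝒥 n) ?_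
    rw [← pow_mul]
    exact pow_le_pow_of_le_one bot_le le_top (by omega)

theorem nthick_bc (n : ℕ) : K635.Thick.nthick 1 ((bc 𝒥 u).ι n) :=
  MorphismProperty.of_isPullback (P := K635.Thick.nthick 1) (isAdicHom_bcHom 𝒥 u n).flip (nthick_ι 𝒥 n)

/-- One step of the lifting. -/
theorem exists_step [IsAffine U] {V : Scheme.{u}} (v : V ⟶ S) [Smooth v] (n : ℕ)
    (g : (bc 𝒥 u).X n ⟶ V) (hg : g ≫ v = bcFst 𝒥 u n ≫ u) :
    ∃ g' : (bc 𝒥 u).X (n + 1) ⟶ V, g' ≫ v = bcFst 𝒥 u (n + 1) ≫ u ∧ (bc 𝒥 u).ι n ≫ g' = g := by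
  have hA := isAffine_bc 𝒥 u (n + 1)
  let A₀ : Over S := Over.mk (bcFst 𝒥 u n ≫ u)
  let A : Over S := Over.mk (bcFst 𝒥 u (n + 1) ≫ u)
  let ii : A₀ ⟶ A := Over.homMk ((bc 𝒥 u).ι n) (by
    change (bc 𝒥 u).ι n ≫ bcFst 𝒥 u (n + 1) ≫ u = bcFst 𝒥 u n ≫ u
    rw [← Category.assoc, ι_bcFst])
  let VV : Over S := Over.mk v
  let T : Over S := Over.mk (𝟙 S)
  let gg : VV ⟶ T := Over.homMk v (Category.comp_id _)
  let t : A₀ ⟶ VV := Over.homMk g hg
  let b : A ⟶ T := Over.homMk (bcFst 𝒥 u (n + 1) ≫ u) (Category.comp_id _)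
  have : IsAffine A.left := hA
  have : Smooth gg.left := inferInstanceAs (Smooth v)
  obtain ⟨l, hl1, hl2⟩ := K862.LiftSp.exists_lift_of_smooth ii (nthick_bc 𝒥 u n) gg t b (by
    ext1
    change g ≫ v = (bc 𝒥 u).ι n ≫ bcFst 𝒥 u (n + 1) ≫ u
    rw [hg, ← Category.assoc, ι_bcFst])
  exact ⟨l.left, congrArg Over.Hom.left hl2, congrArg Over.Hom.left hl1⟩

/-- Compatible lifts of a morphism over `S` from the bottom level. -/
theorem exists_lifts [IsAffine U] {V : Scheme.{u}} (v : V ⟶ S) [Smooth v]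
    (g₀ : (bc 𝒥 u).X 0 ⟶ V) (hg₀ : g₀ ≫ v = bcFst 𝒥 u 0 ≫ u) :
    ∃ g : ∀ n, (bc 𝒥 u).X n ⟶ V, g 0 = g₀ ∧ (∀ n, g n ≫ v = bcFst 𝒥 u n ≫ u) ∧
      ∀ n, (bc 𝒥 u).ι n ≫ g (n + 1) = g n := by
  let G : ∀ n, {g : (bc 𝒥 u).X n ⟶ V // g ≫ v = bcFst 𝒥 u n ≫ u} := fun n =>
    Nat.rec ⟨g₀, hg₀⟩ (fun n g => ⟨(exists_step 𝒥 u v n g.1 g.2).choose,
      (exists_step 𝒥 u v n g.1 g.2).choose_spec.1⟩) n
  exact ⟨fun n => (G n).1, rfl, fun n => (G n).2,
    fun n => (exists_step 𝒥 u v n (G n).1 (G n).2).choose_spec.2⟩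

/-- Lifting of a morphism over `S` from the bottom level to a morphism of systems. -/
theorem exists_hom [IsAffine U] {V : Scheme.{u}} (v : V ⟶ S) [Smooth v]
    (g₀ : (bc 𝒥 u).X 0 ⟶ (bc 𝒥 v).X 0)
    (hg₀ : g₀ ≫ (bcHom 𝒥 v : Hom _ _).app 0 = (bcHom 𝒥 u : Hom _ _).app 0) :
    ∃ Φ : bc 𝒥 u ⟶ bc 𝒥 v, Φ ≫ bcHom 𝒥 v = bcHom 𝒥 u ∧ (Φ : Hom _ _).app 0 = g₀ := by
  have hw : ∀ {W : Scheme.{u}} (w : W ⟶ S) (n : ℕ), bcFst 𝒥 w n ≫ w =
      (bcHom 𝒥 w : Hom _ _).app n ≫ completionToX S 𝒥 n := fun w n => pullback.condition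
  obtain ⟨g, h0, h1, h2⟩ := exists_lifts 𝒥 u v (g₀ ≫ bcFst 𝒥 v 0) (by
    rw [Category.assoc, hw, hw, ← hg₀, Category.assoc])
  have hΦ : ∀ n, ∃ φ : (bc 𝒥 u).X n ⟶ (bc 𝒥 v).X n, φ ≫ bcFst 𝒥 v n = g n ∧
      φ ≫ (bcHom 𝒥 v : Hom _ _).app n = (bcHom 𝒥 u : Hom _ _).app n := fun n =>
    ⟨(isPullback_bcFst 𝒥 v n).lift (g n) ((bcHom 𝒥 u : Hom _ _).app n) (by rw [h1, hw]),
      IsPullback.lift_fst _ _ _ _, IsPullback.lift_snd _ _ _ _⟩
  choose φ hφ1 hφ2 using hΦ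
  refine ⟨⟨φ, fun n => ?_⟩, ?_, ?_⟩
  · refine (isPullback_bcFst 𝒥 v (n + 1)).hom_ext ?_ ?_
    · rw [Category.assoc, ι_bcFst, hφ1, Category.assoc, hφ1, h2]
    · rw [Category.assoc, Category.assoc, hφ2, ← (bcHom 𝒥 v : Hom _ _).comm, ← Category.assoc, hφ2,
        (bcHom 𝒥 u : Hom _ _).comm]
  · exact Hom.ext (funext hφ2)
  · refine (isPullback_bcFst 𝒥 v 0).hom_ext ?_ ?_
    · change φ 0 ≫ _ = _
      rw [hφ1, h0]
    · change φ 0 ≫ _ = _
      rw [hφ2, hg₀]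

end K655.BcSys
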