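import Groth.Agent.Smoothlim.StdSmoothLift
import Groth.Agent.Unram.K147.AffPull
import Groth.Agent.AlgSp.K603.Eff
import Mathlib.AlgebraicGeometry.Morphisms.Smooth

/-!
# Local lifting of smooth schemes along closed immersions of the base

Let `i : S₀ ⟶ S` be a closed immersion and `a : X₀ ⟶ S₀` smooth.  Every point of `X₀` has an open neighbourhood
which is the base change to `S₀` of an affine scheme smooth over `S`.
-/

set_option autoImplicit false

universe u

open CategoryTheory CategoryTheory.Limits AlgebraicGeometry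

namespace K655.SmLift

/-- A smooth morphism is standard smooth near every point, with prescribed affine open of the target. -/
theorem exists_standard {X S : Scheme.{u}} (a : X ⟶ S) [Smooth a] {W : S.Opens} (hW : IsAffineOpen W)
    (N : X.Opens) (x : X) (hx : x ∈ N) (hxW : a x ∈ W) :
    ∃ (V : X.Opens) (_ : IsAffineOpen V) (_ : x ∈ V) (_ : V ≤ N) (e : V ≤ a ⁻¹ᵁ W),
      (a.appLE W V e).hom.IsStandardSmooth := by
  obtain ⟨V, hV, hxV, hVN⟩ := exists_isAffineOpen_mem_and_subset (U := N ⊓ a ⁻¹ᵁ W) (x := x) ⟨hx, hxW⟩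
  have hV : IsAffineOpen V := hV
  have e : V ≤ a ⁻¹ᵁ W := fun y hy => (hVN hy).2
  obtain ⟨s, hs, h⟩ := (a.smooth_appLE hW hV e).locally_isStandardSmooth
  obtain ⟨t, ht⟩ : ∃ t ∈ s, x ∈ X.basicOpen t := by
    by_contra hcon
    push Not at hcon
    have hun := hV.iSup_basicOpen_eq_self_iff.2 hs
    have hx' : x ∈ (⨆ f : s, X.basicOpen (f : Γ(X, V)) : X.Opens) := by rw [hun]; exact hxV
    simp only [TopologicalSpace.Opens.mem_iSup] at hx'
    obtain ⟨⟨f, hf⟩, hf'⟩ := hx'
    exact hcon f hf hf'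
  refine ⟨X.basicOpen t, hV.basicOpen t, ht.2, (X.basicOpen_le t).trans (fun y hy => (hVN hy).1),
    (X.basicOpen_le t).trans e, ?_⟩
  have h1 := h t ht.1
  have := hV.isLocalization_basicOpen t
  let ε := IsLocalization.algEquiv (Submonoid.powers t) (Localization.Away t) Γ(X, X.basicOpen t)
  have h2 := RingHom.isStandardSmooth_respectsIso.1 _ ε.toRingEquiv h1
  convert! h2 using 1
  ext r
  change _ = ε (algebraMap _ _ ((a.appLE W V e).hom r))
  rw [ε.commutes]
  change _ = (X.presheaf.map (homOfLE (X.basicOpen_le t)).op).hom ((a.appLE W V e).hom r)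
  rw [← RingHom.comp_apply, ← CommRingCat.hom_comp, Scheme.Hom.appLE_map]

/-- The main result: smooth morphisms lift locally, together with the affine base, along closed immersions. -/
theorem exists_lift {S S₀ X₀ : Scheme.{u}} (i : S₀ ⟶ S) [IsClosedImmersion i] (a : X₀ ⟶ S₀) [Smooth a]
    (N : X₀.Opens) (x : X₀) (hx : x ∈ N) :
    ∃ (U₀ : X₀.Opens) (_ : x ∈ U₀) (_ : U₀ ≤ N) (U : Scheme.{u}) (_ : IsAffine U) (u : U ⟶ S)
      (j : U₀.toScheme ⟶ U), Smooth u ∧ IsPullback j (U₀.ι ≫ a) u i := by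
  obtain ⟨W, hW, hxW, -⟩ := exists_isAffineOpen_mem_and_subset (X := S) (U := ⊤) (x := i (a x)) trivial
  have hW : IsAffineOpen W := hW
  have hW₀ : IsAffineOpen (i ⁻¹ᵁ W) := hW.preimage i
  obtain ⟨V, hV, hxV, hVN, e, hstd⟩ := exists_standard a hW₀ N x hx hxW
  have hsurj : Function.Surjective (i.app W).hom := Scheme.Hom.app_surjective i W hW
  let ρ : Γ(S, W) →+* Γ(S₀, i ⁻¹ᵁ W) := (i.app W).hom
  let β : Γ(S₀, i ⁻¹ᵁ W) →+* Γ(X₀, V) := (a.appLE (i ⁻¹ᵁ W) V e).hom
  algebraize [ρ, β, β.comp ρ]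
  have hstd' : Algebra.IsStandardSmooth Γ(S₀, i ⁻¹ᵁ W) Γ(X₀, V) := hstd
  obtain ⟨B, _, _, hB, p, hp, hker⟩ :=
    Groth.Agent.Smoothlim.StdSmoothLift.exists_isStandardSmooth_lift (R := Γ(S, W))
      (R' := Γ(S₀, i ⁻¹ᵁ W)) (B' := Γ(X₀, V)) hsurj
  have hpo : IsPushout (CommRingCat.ofHom (algebraMap Γ(S, W) B)) (i.app W)
      (CommRingCat.ofHom (p : B →+* Γ(X₀, V))) (a.appLE (i ⁻¹ᵁ W) V e) := by
    refine K603.Eff.isPushout_of_surjective ?_ hsurj hp hker
    ext r
    exact p.commutes r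
  have h1 := isPullback_SpecMap_of_isPushout _ _ _ _ hpo
  have h2 := (K147.AffPull.isPullback_fromSpec i hW).flip
  have h3 := h1.paste_vert h2
  refine ⟨V, hxV, hVN, Spec (CommRingCat.of B), inferInstance,
    Spec.map (CommRingCat.ofHom (algebraMap Γ(S, W) B)) ≫ hW.fromSpec,
    hV.isoSpec.hom ≫ Spec.map (CommRingCat.ofHom (p : B →+* Γ(X₀, V))), ?_, ?_⟩
  · have : Smooth (Spec.map (CommRingCat.ofHom (algebraMap Γ(S, W) B))) := by
      rw [HasRingHomProperty.Spec_iff (P := @Smooth)]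
      change (algebraMap Γ(S, W) B).Smooth
      rw [RingHom.smooth_algebraMap]
      infer_instance
    infer_instance
  · refine IsPullback.of_iso h3 hV.isoSpec.symm (Iso.refl _) (Iso.refl _) (Iso.refl _) ?_ ?_ ?_ ?_
    · simp
    · rw [hW₀.SpecMap_appLE_fromSpec a hV e]
      rw [← IsAffineOpen.isoSpec_inv_ι, Iso.refl_hom, Category.comp_id, Category.assoc]
      rfl
    · simp
    · simp

end K655.SmLift
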